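import Groth.Agent.DimLib.Maximal
import Groth.Agent.DimLib.Algebra
import Groth.Agent.DimLib.Morphism
import Groth.Agent.CAlgH.NoetherChain
import Groth.Agent.FlatMorStrat.Noetherian
import Mathlib.AlgebraicGeometry.AffineSpace

/-!
# Noether normalisation on a dense open of a scheme of finite type over a field
-/

set_option autoImplicit false
set_option linter.style.haveILetI false
set_option backward.isDefEq.respectTransparency.types false
set_option maxHeartbeats 800000

universe u

open CategoryTheory CategoryTheory.Limits AlgebraicGeometry Opposite TopologicalSpace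

namespace Groth.Agent.NoethNormH2

variable {k : Type u} [Field k] {X : Scheme.{u}} (f : X ⟶ Spec (CommRingCat.of k))

/-- A dense open has the same dimension. -/
theorem dim_eq_of_dense [LocallyOfFiniteType f] (U : X.Opens) (hU : Dense (U : Set X)) [NoetherianSpace X] :
    topologicalKrullDim (U : Scheme.{u}) = topologicalKrullDim X := by
  rw [DimLib.topologicalKrullDim_eq_iSup (U.ι ≫ f), DimLib.topologicalKrullDim_eq_iSup f]
  refine le_antisymm (iSup_le fun y => ?_) (iSup_le fun x => ?_)
  · rw [DimLib.ptDim_comp_preimmersion]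
    exact le_iSup (fun x : X => (DimLib.ptDim f x : WithBot ℕ∞)) _
  · obtain ⟨η, W, hη, hW, hηW, hWZ, -⟩ :=
      DimLib.exists_component_data (Y := X) (irreducibleComponent_mem_irreducibleComponents x)
    obtain ⟨y, hyW, hyU⟩ := hU.inter_open_nonempty W hW ⟨η, hηW⟩
    have hηU : η ∈ U := (hη.specializes (hWZ hyW)).mem_open U.isOpen hyU
    refine le_trans ?_ (le_iSup (fun z : U.toScheme => (DimLib.ptDim (U.ι ≫ f) z : WithBot ℕ∞)) ⟨η, hηU⟩)
    rw [DimLib.ptDim_comp_preimmersion]
    exact_mod_cast DimLib.ptDim_le_of_specializes f (x := η) (y := x) (hη.specializes mem_irreducibleComponent)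

/-- Affine space as a spectrum, over `k`. -/
noncomputable def affIso (n : ℕ) (k : Type u) [CommRing k] :
    𝔸(ULift.{u} (Fin n); Spec (CommRingCat.of k)) ≅ Spec (CommRingCat.of (MvPolynomial (ULift.{u} (Fin n)) k)) :=
  AffineSpace.SpecIso _ (CommRingCat.of k)

theorem affIso_inv_over (n : ℕ) :
    (affIso n k).inv ≫ (𝔸(ULift.{u} (Fin n); Spec (CommRingCat.of k)) ↘ Spec (CommRingCat.of k)) =
      Spec.map (CommRingCat.ofHom MvPolynomial.C) :=
  AffineSpace.SpecIso_inv_over _

theorem dim_affine (n : ℕ) : ringKrullDim (MvPolynomial (ULift.{u} (Fin n)) k) = (n : WithBot ℕ∞) := by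
  rw [ringKrullDim_eq_of_ringEquiv (MvPolynomial.renameEquiv k (Equiv.ulift.{u} (α := Fin n))).toRingEquiv,
    CAlgH.NoetherChain.dim_mvPolynomial]

theorem dim_affineSpace (n : ℕ) :
    topologicalKrullDim (𝔸(ULift.{u} (Fin n); Spec (CommRingCat.of k)) : Scheme.{u}) = (n : WithBot ℕ∞) := by
  rw [IsHomeomorph.topologicalKrullDim_eq _ (affIso n k).hom.homeomorph.isHomeomorph]
  exact (PrimeSpectrum.topologicalKrullDim_eq_ringKrullDim _).trans (dim_affine n)

/-- A morphism to affine space from an affine open given by a hom of algebras. -/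
noncomputable def toAff {n : ℕ} {U : X.Opens} (hU : IsAffineOpen U)
    (ψ : MvPolynomial (ULift.{u} (Fin n)) k →+* Γ(X, U)) :
    U.toScheme ⟶ 𝔸(ULift.{u} (Fin n); Spec (CommRingCat.of k)) :=
  hU.isoSpec.hom ≫ Spec.map (CommRingCat.ofHom ψ) ≫ (affIso n k).inv

theorem toAff_over {n : ℕ} {U : X.Opens} (hU : IsAffineOpen U)
    (ψ : MvPolynomial (ULift.{u} (Fin n)) k →+* Γ(X, U))
    (hψ : ψ.comp MvPolynomial.C = (Spec.preimage (hU.fromSpec ≫ f)).hom) :
    toAff hU ψ ≫ (𝔸(ULift.{u} (Fin n); Spec (CommRingCat.of k)) ↘ Spec (CommRingCat.of k)) = U.ι ≫ f := by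
  rw [toAff, Category.assoc, Category.assoc, affIso_inv_over, ← Spec.map_comp, ← CommRingCat.ofHom_comp, hψ,
    CommRingCat.ofHom_hom, Spec.map_preimage, ← Category.assoc, IsAffineOpen.isoSpec_hom,
    IsAffineOpen.toSpecΓ_fromSpec]

theorem toAff_finite {n : ℕ} {U : X.Opens} (hU : IsAffineOpen U)
    (ψ : MvPolynomial (ULift.{u} (Fin n)) k →+* Γ(X, U)) (hψ : ψ.Finite) : IsFinite (toAff hU ψ) := by
  haveI : IsFinite (Spec.map (CommRingCat.ofHom ψ)) := (IsFinite.SpecMap_iff _).2 hψ
  unfold toAff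
  infer_instance

theorem toAff_surjective {n : ℕ} {U : X.Opens} (hU : IsAffineOpen U)
    (ψ : MvPolynomial (ULift.{u} (Fin n)) k →+* Γ(X, U)) (hψ : Function.Surjective (PrimeSpectrum.comap ψ)) :
    Function.Surjective (toAff hU ψ).base := by
  haveI : Surjective (Spec.map (CommRingCat.ofHom ψ)) := ⟨hψ⟩
  haveI : Surjective (toAff hU ψ) := by unfold toAff; infer_instance
  exact (toAff hU ψ).surjective

theorem exists_morphism [LocallyOfFiniteType f] [QuasiCompact f] (n : ℕ) :
    ((n : WithBot ℕ∞) ≤ topologicalKrullDim X →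
      ∃ (U : X.Opens) (g : (U : Scheme.{u}) ⟶ 𝔸(ULift.{u} (Fin n); Spec (CommRingCat.of k))),
        Dense (U : Set X) ∧ g ≫ (𝔸(ULift.{u} (Fin n); Spec (CommRingCat.of k)) ↘ Spec (CommRingCat.of k)) = U.ι ≫ f ∧
          Function.Surjective g.base ∧ (topologicalKrullDim X ≤ n → IsFinite g)) ∧
    (topologicalKrullDim X ≤ n →
      ∃ (U : X.Opens) (g : (U : Scheme.{u}) ⟶ 𝔸(ULift.{u} (Fin n); Spec (CommRingCat.of k))),
        Dense (U : Set X) ∧ g ≫ (𝔸(ULift.{u} (Fin n); Spec (CommRingCat.of k)) ↘ Spec (CommRingCat.of k)) = U.ι ≫ f ∧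
          IsFinite g) := by
  classical
  haveI : IsLocallyNoetherian X := LocallyOfFiniteType.isLocallyNoetherian f
  haveI : CompactSpace X := QuasiCompact.compactSpace_of_compactSpace f
  haveI : IsNoetherian X := ⟨⟩
  obtain ⟨U, hU, -, hgen⟩ := FlatMorStrat.exists_affine_dense X
  have hdense : Dense (U : Set X) := fun z => by
    obtain ⟨y, hy, hyz⟩ := hgen z
    exact closure_mono (Set.singleton_subset_iff.2 hy) hyz.mem_closure
  have hdim : ringKrullDim Γ(X, U) = topologicalKrullDim X := by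
    rw [← dim_eq_of_dense f U hdense, IsHomeomorph.topologicalKrullDim_eq _ hU.isoSpec.hom.homeomorph.isHomeomorph]
    exact (PrimeSpectrum.topologicalKrullDim_eq_ringKrullDim _).symm
  let φ₀ := (Spec.preimage (hU.fromSpec ≫ f)).hom
  letI : Algebra k Γ(X, U) := φ₀.toAlgebra
  haveI : Algebra.FiniteType k Γ(X, U) := by
    refine RingHom.finiteType_algebraMap.1 ?_
    show φ₀.FiniteType
    refine (HasRingHomProperty.Spec_iff (P := @LocallyOfFiniteType)).1 ?_
    rw [Spec.map_preimage]
    infer_instance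
  rcases subsingleton_or_nontrivial Γ(X, U) with hs | hnt
  · constructor
    · intro hn
      exfalso
      rw [← hdim, ringKrullDim_eq_bot_of_subsingleton] at hn
      simp at hn
    · intro _
      let ψ : MvPolynomial (ULift.{u} (Fin n)) k →ₐ[k] Γ(X, U) := MvPolynomial.aeval fun _ => 0
      exact ⟨U, toAff hU ψ.toRingHom, hdense, toAff_over f hU _ ψ.comp_algebraMap,
        toAff_finite hU _ (RingHom.Finite.of_surjective _ fun y => ⟨0, Subsingleton.elim _ _⟩)⟩
  obtain ⟨s, φ, hφ, hfin⟩ := exists_finite_inj_algHom_of_fg k Γ(X, U)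
  letI : Algebra (MvPolynomial (Fin s) k) Γ(X, U) := φ.toRingHom.toAlgebra
  haveI : Module.Finite (MvPolynomial (Fin s) k) Γ(X, U) := hfin
  haveI : Algebra.IsIntegral (MvPolynomial (Fin s) k) Γ(X, U) := Algebra.IsIntegral.of_finite _ _
  have hs : topologicalKrullDim X = (s : WithBot ℕ∞) := by
    rw [← hdim, ← DimLib.ringKrullDim_eq_of_isIntegral (R := MvPolynomial (Fin s) k) hφ,
      CAlgH.NoetherChain.dim_mvPolynomial]
  have hφs : Function.Surjective (PrimeSpectrum.comap φ.toRingHom) :=
    (RingHom.Finite.to_isIntegral hfin).comap_surjective hφ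
  constructor
  · intro hn
    rw [hs, Nat.cast_le] at hn
    let i : ULift.{u} (Fin n) → Fin s := fun a => Fin.castLE hn a.down
    have hi : Function.Injective i := fun a b h => ULift.ext _ _ (Fin.castLE_injective hn h)
    let ψ : MvPolynomial (ULift.{u} (Fin n)) k →ₐ[k] Γ(X, U) := φ.comp (MvPolynomial.rename i)
    have hren : Function.Surjective (PrimeSpectrum.comap (MvPolynomial.rename (R := k) i).toRingHom) := by
      intro P
      refine ⟨PrimeSpectrum.comap (MvPolynomial.killCompl (R := k) hi).toRingHom P, ?_⟩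
      rw [← PrimeSpectrum.comap_comp_apply]
      have : (MvPolynomial.killCompl (R := k) hi).toRingHom.comp (MvPolynomial.rename (R := k) i).toRingHom =
          RingHom.id _ := RingHom.ext fun p => MvPolynomial.killCompl_rename_app hi p
      rw [this]
      rfl
    refine ⟨U, toAff hU ψ.toRingHom, hdense, toAff_over f hU _ ψ.comp_algebraMap,
      toAff_surjective hU _ ?_, fun hle => toAff_finite hU _ ?_⟩
    · intro P
      obtain ⟨Q, rfl⟩ := hren P
      obtain ⟨T, rfl⟩ := hφs Q
      exact ⟨T, rfl⟩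
    · rw [hs, Nat.cast_le] at hle
      refine RingHom.Finite.comp hfin (RingHom.Finite.of_surjective _ ?_)
      obtain rfl := le_antisymm hn hle
      exact (MvPolynomial.renameEquiv k (Equiv.ulift.{u} (α := Fin n))).surjective
  · intro hn
    rw [hs, Nat.cast_le] at hn
    let i : Fin s → ULift.{u} (Fin n) := fun a => ULift.up (Fin.castLE hn a)
    have hi : Function.Injective i := fun a b h => Fin.castLE_injective hn (congrArg ULift.down h)
    let ψ : MvPolynomial (ULift.{u} (Fin n)) k →ₐ[k] Γ(X, U) := φ.comp (MvPolynomial.killCompl hi)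
    exact ⟨U, toAff hU ψ.toRingHom, hdense, toAff_over f hU _ ψ.comp_algebraMap, toAff_finite hU _
      (RingHom.Finite.comp hfin (RingHom.Finite.of_surjective _ fun p =>
        ⟨MvPolynomial.rename i p, MvPolynomial.killCompl_rename_app hi p⟩))⟩

theorem le_dim_of_surjective [LocallyOfFiniteType f] [QuasiCompact f] {n : ℕ} {U : X.Opens}
    (hU : Dense (U : Set X)) (g : (U : Scheme.{u}) ⟶ 𝔸(ULift.{u} (Fin n); Spec (CommRingCat.of k)))
    (hg : g ≫ (𝔸(ULift.{u} (Fin n); Spec (CommRingCat.of k)) ↘ Spec (CommRingCat.of k)) = U.ι ≫ f)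
    (hs : Function.Surjective g.base) : (n : WithBot ℕ∞) ≤ topologicalKrullDim X := by
  haveI : IsLocallyNoetherian X := LocallyOfFiniteType.isLocallyNoetherian f
  haveI : CompactSpace X := QuasiCompact.compactSpace_of_compactSpace f
  haveI : IsNoetherian X := ⟨⟩
  let p := 𝔸(ULift.{u} (Fin n); Spec (CommRingCat.of k)) ↘ Spec (CommRingCat.of k)
  haveI : LocallyOfFiniteType p := inferInstance
  haveI : LocallyOfFiniteType (g ≫ p) := by rw [hg]; infer_instance
  rw [← dim_eq_of_dense f U hU, ← dim_affineSpace (k := k) n, DimLib.topologicalKrullDim_eq_iSup p,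
    DimLib.topologicalKrullDim_eq_iSup (g ≫ p)]
  refine iSup_le fun x => ?_
  obtain ⟨y, rfl⟩ := hs x
  exact le_trans (by exact_mod_cast DimLib.ptDim_apply_le p g y)
    (le_iSup (fun z : U.toScheme => (DimLib.ptDim (g ≫ p) z : WithBot ℕ∞)) y)

theorem dim_le_of_finite [LocallyOfFiniteType f] [QuasiCompact f] {n : ℕ} {U : X.Opens}
    (hU : Dense (U : Set X)) (g : (U : Scheme.{u}) ⟶ 𝔸(ULift.{u} (Fin n); Spec (CommRingCat.of k)))
    [IsFinite g] : topologicalKrullDim X ≤ (n : WithBot ℕ∞) := by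
  haveI : IsLocallyNoetherian X := LocallyOfFiniteType.isLocallyNoetherian f
  haveI : CompactSpace X := QuasiCompact.compactSpace_of_compactSpace f
  haveI : IsNoetherian X := ⟨⟩
  haveI : IsAffine U.toScheme := isAffine_of_isAffineHom g
  let A := Γ(U.toScheme, ⊤)
  let φ : CommRingCat.of (MvPolynomial (ULift.{u} (Fin n)) k) ⟶ A :=
    Spec.preimage (U.toScheme.isoSpec.inv ≫ g ≫ (affIso n k).hom)
  have hfin : φ.hom.Finite := by
    refine (IsFinite.SpecMap_iff _).1 ?_
    rw [Spec.map_preimage]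
    infer_instance
  letI : Algebra (MvPolynomial (ULift.{u} (Fin n)) k) A := φ.hom.toAlgebra
  haveI : Module.Finite (MvPolynomial (ULift.{u} (Fin n)) k) A := hfin
  haveI : Algebra.IsIntegral (MvPolynomial (ULift.{u} (Fin n)) k) A := Algebra.IsIntegral.of_finite _ _
  rw [← dim_eq_of_dense f U hU, IsHomeomorph.topologicalKrullDim_eq _ U.toScheme.isoSpec.hom.homeomorph.isHomeomorph,
    ← dim_affine (k := k) n]
  exact (PrimeSpectrum.topologicalKrullDim_eq_ringKrullDim _).trans_le
    (Order.krullDim_le_of_strictMono _ (DimLib.strictMono_comap_of_isIntegral (R := MvPolynomial (ULift.{u} (Fin n)) k) (S := A)))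

end Groth.Agent.NoethNormH2
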